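/-
Orbits of the automorphism group against the least prime divisor of the group order.

* `orbits_le`: counting criterion
* `large_class`: the count holds if some class has more than `p` elements, `p` the least prime divisor
-/
import Cfsg.Agent.EqLemmas

set_option autoImplicit false
set_option linter.unusedSectionVars false

namespace Cfsg.Agent.AutOrbits

open scoped commutatorElement
open Subgroup

theorem card_orbitQuot_le {A X : Type*} [Group A] [MulAction A X] [Finite X] [Fintype X] (b : X → ℕ)
    (hb : ∀ x, 0 < b x ∧ b x ≤ Nat.card (MulAction.orbit A x)) :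
    (Nat.card (MulAction.orbitRel.Quotient A X) : ℚ) ≤ ∑ x, (1 : ℚ) / b x := by
  classical
  haveI : Fintype (MulAction.orbitRel.Quotient A X) := Fintype.ofFinite _
  calc (Nat.card (MulAction.orbitRel.Quotient A X) : ℚ)
      = ∑ _q : MulAction.orbitRel.Quotient A X, (1 : ℚ) := by
        rw [Finset.sum_const, Finset.card_univ, Nat.card_eq_fintype_card, nsmul_one]
    _ = ∑ q : MulAction.orbitRel.Quotient A X,
          ∑ x ∈ Finset.univ.filter (fun x => (Quotient.mk'' x : MulAction.orbitRel.Quotient A X) = q),
            (1 : ℚ) / Nat.card (MulAction.orbit A x) := by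
        refine Finset.sum_congr rfl fun q _ => ?_
        induction q using Quotient.inductionOn' with
        | h y =>
          have hset : ∀ x, x ∈ Finset.univ.filter
              (fun x => (Quotient.mk'' x : MulAction.orbitRel.Quotient A X) = Quotient.mk'' y) ↔
              x ∈ MulAction.orbit A y := fun x => by
            rw [Finset.mem_filter, Quotient.eq'']
            exact ⟨fun h => h.2, fun h => ⟨Finset.mem_univ _, h⟩⟩
          rw [Finset.sum_congr rfl fun x hx => by
              rw [MulAction.orbit_eq_iff.mpr ((hset x).mp hx)],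
            Finset.sum_const, nsmul_eq_mul]
          have hcard : (Finset.univ.filter
              (fun x => (Quotient.mk'' x : MulAction.orbitRel.Quotient A X) = Quotient.mk'' y)).card =
              Nat.card (MulAction.orbit A y) := by
            rw [← Nat.card_eq_finsetCard]
            exact Nat.card_congr (Equiv.subtypeEquivRight hset)
          haveI : Nonempty (MulAction.orbit A y) := ⟨⟨y, MulAction.mem_orbit_self y⟩⟩
          rw [hcard, mul_one_div, div_self (by exact_mod_cast Nat.card_pos.ne')]
    _ = ∑ x, (1 : ℚ) / Nat.card (MulAction.orbit A x) :=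
        Finset.sum_fiberwise Finset.univ _ _
    _ ≤ ∑ x, (1 : ℚ) / b x := by
        refine Finset.sum_le_sum fun x _ => ?_
        exact one_div_le_one_div_of_le (by exact_mod_cast (hb x).1) (by exact_mod_cast (hb x).2)

variable {G : Type*} [Group G] [Finite G]

theorem conj_mem_orbit (g x : G) : g * x * g⁻¹ ∈ MulAction.orbit (MulAut G) x :=
  ⟨MulAut.conj g, rfl⟩

theorem card_conjugates (x : G) :
    Nat.card (Set.range fun g : G => g * x * g⁻¹) = (centralizer ({x} : Set G)).index := by
  have h : (Set.range fun g : G => g * x * g⁻¹) = MulAction.orbit (ConjAct G) x := by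
    ext y
    constructor
    · rintro ⟨g, rfl⟩; exact ⟨ConjAct.toConjAct g, rfl⟩
    · rintro ⟨g, rfl⟩; exact ⟨ConjAct.ofConjAct g, rfl⟩
  rw [h, Nat.card_coe_set_eq, ← MulAction.index_stabilizer, ConjAct.stabilizer_eq_centralizer]
  rfl

theorem index_le_orbit (x : G) :
    (centralizer ({x} : Set G)).index ≤ Nat.card (MulAction.orbit (MulAut G) x) := by
  rw [← card_conjugates]
  exact Nat.card_mono (Set.toFinite _) (by rintro _ ⟨g, rfl⟩; exact conj_mem_orbit g x)

theorem index_centralizer_eq_one_iff (x : G) :
    (centralizer ({x} : Set G)).index = 1 ↔ x ∈ center G := by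
  rw [Subgroup.index_eq_one, centralizer_eq_top_iff_subset, Set.singleton_subset_iff]
  rfl

variable {p : ℕ}

/-- Index of the centralizer of a noncentral element. -/
theorem p_le_index (hp : p = (Nat.card G).minFac) {x : G} (hx : x ∉ center G) :
    p ≤ (centralizer ({x} : Set G)).index := by
  have h1 : (centralizer ({x} : Set G)).index ≠ 1 := fun h => hx ((index_centralizer_eq_one_iff x).mp h)
  have h0 : (centralizer ({x} : Set G)).index ≠ 0 := Subgroup.index_ne_zero_of_finite
  rw [hp]
  exact Nat.minFac_le_of_dvd (by omega) (Subgroup.index_dvd_card _)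

theorem card_bound (hp : p = (Nat.card G).minFac) {x : G} (hx : x ∉ center G) :
    p * (centralizer ({x} : Set G)).index * Nat.card (center G) ≤ Nat.card G := by
  set C := centralizer ({x} : Set G)
  have hZC : center G ≤ C := center_le_centralizer _
  have hne : (center G).subgroupOf C ≠ ⊤ := fun h => by
    rw [Subgroup.subgroupOf_eq_top] at h
    exact hx (h (mem_centralizer_singleton_iff.mpr rfl))
  have h2 : p ≤ ((center G).subgroupOf C).index := by
    rw [hp]
    refine Nat.minFac_le_of_dvd ?_ ((Subgroup.index_dvd_card _).trans (Subgroup.card_subgroup_dvd_card C))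
    have := (((center G).subgroupOf C).index_ne_zero_of_finite)
    have h1 : ((center G).subgroupOf C).index ≠ 1 := fun h => hne (Subgroup.index_eq_one.mp h)
    omega
  calc p * C.index * Nat.card (center G) ≤ ((center G).subgroupOf C).index * C.index * Nat.card (center G) :=
        Nat.mul_le_mul_right _ (Nat.mul_le_mul_right _ h2)
    _ = (Nat.card ((center G).subgroupOf C) * ((center G).subgroupOf C).index) * C.index := by
        rw [Nat.card_congr (Subgroup.subgroupOfEquivOfLe hZC).toEquiv]; ring
    _ = Nat.card G := by rw [Subgroup.card_mul_index, Subgroup.card_mul_index]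

/-- The counting criterion. -/
theorem orbits_le [Nontrivial G] (hp : p = (Nat.card G).minFac) (T : Set G) (q : ℕ) (hq : 0 < q)
    (hT : ∀ x ∈ T, x ∉ center G ∧ q ≤ Nat.card (MulAction.orbit (MulAut G) x))
    (hcount : q * Nat.card (center G) * (p - 1) ≤ Nat.card T * (q - p)) (hpq : p ≤ q) :
    Nat.card (MulAction.orbitRel.Quotient (MulAut G) G) ≤ Nat.card G / p := by
  classical
  haveI : Fintype G := Fintype.ofFinite G
  have hp0 : 0 < p := by rw [hp]; exact Nat.minFac_pos _
  let b : G → ℕ := fun x => if x ∈ center G then 1 else if x ∈ T then q else p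
  have hb : ∀ x, 0 < b x ∧ b x ≤ Nat.card (MulAction.orbit (MulAut G) x) := by
    intro x
    simp only [b]
    split_ifs with h1 h2
    · haveI : Nonempty (MulAction.orbit (MulAut G) x) := ⟨⟨x, MulAction.mem_orbit_self x⟩⟩
      exact ⟨one_pos, Nat.card_pos⟩
    · exact ⟨hq, (hT x h2).2⟩
    · exact ⟨hp0, (p_le_index hp h1).trans (index_le_orbit x)⟩
  have h := card_orbitQuot_le (A := MulAut G) b hb
  have hsum : (p : ℚ) * ∑ x, (1 : ℚ) / b x ≤ Nat.card G := by
    have hpt : ∀ x, (p : ℚ) * ((1 : ℚ) / b x) = 1 + (if x ∈ center G then (p : ℚ) - 1 else 0) -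
        (if x ∈ T then 1 - (p : ℚ) / q else 0) := by
      intro x
      simp only [b]
      by_cases h1 : x ∈ center G
      · have h2 : x ∉ T := fun h2 => (hT x h2).1 h1
        simp [h1, h2]
      · by_cases h2 : x ∈ T
        · simp [h1, h2, div_eq_mul_inv]
        · have : (p : ℚ) ≠ 0 := by exact_mod_cast hp0.ne'
          simp [h1, h2, this]
    rw [Finset.mul_sum, Finset.sum_congr rfl fun x _ => hpt x, Finset.sum_sub_distrib,
      Finset.sum_add_distrib, Finset.sum_const, Finset.card_univ, nsmul_one, ← Nat.card_eq_fintype_card,
      ← Finset.sum_filter, Finset.sum_const, ← Finset.sum_filter, Finset.sum_const, nsmul_eq_mul,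
      nsmul_eq_mul]
    have hZc : ((Finset.univ : Finset G).filter (· ∈ center G)).card = Nat.card (center G) := by
      rw [← Nat.card_eq_finsetCard]
      exact Nat.card_congr (Equiv.subtypeEquivRight fun x => by simp)
    have hTc : ((Finset.univ : Finset G).filter (· ∈ T)).card = Nat.card T := by
      rw [← Nat.card_eq_finsetCard]
      exact Nat.card_congr (Equiv.subtypeEquivRight fun x => by simp)
    rw [hZc, hTc]
    have hqQ : (0 : ℚ) < q := by exact_mod_cast hq
    have hc : ((q * Nat.card (center G) * (p - 1) : ℕ) : ℚ) ≤ ((Nat.card T * (q - p) : ℕ) : ℚ) := by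
      exact_mod_cast hcount
    push_cast [Nat.cast_sub hpq, Nat.cast_sub (show 1 ≤ p by omega)] at hc
    have : (Nat.card (center G) : ℚ) * ((p : ℚ) - 1) ≤ (Nat.card T : ℚ) * (1 - (p : ℚ) / q) := by
      rw [one_sub_div hqQ.ne', mul_div_assoc', le_div_iff₀ hqQ]
      linarith
    linarith
  rw [Nat.le_div_iff_mul_le hp0]
  have : ((Nat.card (MulAction.orbitRel.Quotient (MulAut G) G) * p : ℕ) : ℚ) ≤ (Nat.card G : ℚ) := by
    push_cast
    calc (Nat.card (MulAction.orbitRel.Quotient (MulAut G) G) : ℚ) * p ≤ (∑ x, (1 : ℚ) / b x) * p :=
          mul_le_mul_of_nonneg_right h (by exact_mod_cast hp0.le)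
      _ ≤ _ := by rw [mul_comm]; exact hsum
  exact_mod_cast this

/-- If all centralizers of a set have index at most the least prime, the centralizer of the set has prime
power index. -/
theorem index_centralizer_isPow (hp : p = (Nat.card G).minFac) [hpp : Fact p.Prime] (B : Set G)
    (hB : ∀ b ∈ B, (centralizer ({b} : Set G)).index ≤ p) :
    ∃ k, (centralizer B).index = p ^ k := by
  have hnormal : ∀ b ∈ B, (centralizer ({b} : Set G)).Normal ∧
      ∀ g : G, g ^ p ∈ centralizer ({b} : Set G) ∧ ∀ h : G, ⁅g, h⁆ ∈ centralizer ({b} : Set G) := by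
    intro b hb
    set C := centralizer ({b} : Set G)
    by_cases hb' : b ∈ center G
    · have : C = ⊤ := Subgroup.index_eq_one.mp ((index_centralizer_eq_one_iff b).mpr hb')
      rw [this]
      exact ⟨inferInstance, fun g => ⟨mem_top _, fun _ => mem_top _⟩⟩
    have hidx : C.index = p := le_antisymm (hB b hb) (p_le_index hp hb')
    haveI hn : C.Normal := Subgroup.normal_of_index_eq_minFac_card (hidx.trans hp)
    refine ⟨hn, fun g => ⟨?_, fun h => ?_⟩⟩
    · have := C.pow_index_mem g
      rwa [hidx] at this
    · rw [← QuotientGroup.eq_one_iff]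
      show QuotientGroup.mk' C ⁅g, h⁆ = 1
      rw [map_commutatorElement, commutatorElement_eq_one_iff_mul_comm]
      haveI : IsCyclic (G ⧸ C) := isCyclic_of_prime_card (p := p) (by rw [← Subgroup.index_eq_card, hidx])
      exact IsCyclic.commGroup.mul_comm _ _
  have hmem : ∀ g, g ∈ centralizer B ↔ ∀ b ∈ B, g ∈ centralizer ({b} : Set G) := by
    intro g
    simp only [mem_centralizer_iff, Set.mem_singleton_iff, forall_eq]
  haveI hn : (centralizer B).Normal := ⟨fun n hn g => (hmem _).mpr fun b hb =>
    (hnormal b hb).1.conj_mem n ((hmem n).mp hn b hb) g⟩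
  have hpg : IsPGroup p (G ⧸ centralizer B) := fun q => ⟨1, by
    induction q using QuotientGroup.induction_on with
    | H g =>
      rw [pow_one, ← QuotientGroup.mk_pow, QuotientGroup.eq_one_iff]
      exact (hmem _).mpr fun b hb => ((hnormal b hb).2 g).1⟩
  obtain ⟨k, hk⟩ := IsPGroup.iff_card.mp hpg
  exact ⟨k, by rw [Subgroup.index_eq_card, hk]⟩

/-- If some class has more than `p` elements the bound holds. -/
theorem large_class [Nontrivial G] (hp : p = (Nat.card G).minFac)
    (hx : ∃ x : G, p < (centralizer ({x} : Set G)).index) :
    Nat.card (MulAction.orbitRel.Quotient (MulAut G) G) ≤ Nat.card G / p := by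
  classical
  haveI : Fintype G := Fintype.ofFinite G
  have hprime : p.Prime := by rw [hp]; exact Nat.minFac_prime Finite.one_lt_card.ne'
  haveI : Fact p.Prime := ⟨hprime⟩
  set s : G → ℕ := fun x => (centralizer ({x} : Set G)).index with hs
  set T : Set G := {x | p < s x} with hT
  have hTnc : ∀ x ∈ T, x ∉ center G := fun x hx hz => by
    have h1 : s x = 1 := (index_centralizer_eq_one_iff x).mpr hz
    have h2 : p < s x := hx
    have := hprime.two_le
    omega
  have hinv : ∀ (x : G), ∀ z ∈ center G, s (x * z) = s x := by
    intro x z hz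
    have : centralizer ({x * z} : Set G) = centralizer ({x} : Set G) := by
      ext g
      rw [mem_centralizer_singleton_iff, mem_centralizer_singleton_iff, ← mul_assoc,
        mul_assoc x z g, ← mem_center_iff.mp hz g, ← mul_assoc, mul_left_inj]
    simp only [hs, this]
  by_cases hA : ∃ x, ∀ k, s x ≠ p ^ k
  · -- some class size is not a power of `p`
    obtain ⟨x, hxk⟩ := hA
    have hxC : x ∉ center G := fun h => hxk 0 (by rw [pow_zero]; exact (index_centralizer_eq_one_iff x).mpr h)
    set B : Set G := {b | s b ≤ p} with hBdef
    obtain ⟨k, hk⟩ := index_centralizer_isPow hp B (fun b hb => hb)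
    have hxT : ∀ b ∈ B, x * b ∈ T := by
      intro b hb
      by_contra hxb
      have hxbB : x * b ∈ B := not_lt.mp (show ¬ p < s (x * b) from hxb)
      have hle : centralizer B ≤ centralizer ({x} : Set G) := by
        intro g hg
        rw [mem_centralizer_singleton_iff]
        have h1 : Commute g (x * b) := (mem_centralizer_iff.mp hg _ hxbB).symm
        have h2 : Commute g b := (mem_centralizer_iff.mp hg _ hb).symm
        have h3 := h1.mul_right h2.inv_right
        rwa [mul_inv_cancel_right] at h3
      obtain ⟨j, -, hj⟩ := (Nat.dvd_prime_pow hprime).mp (hk ▸ Subgroup.index_dvd_of_le hle)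
      exact hxk j hj
    have hcardB : Nat.card B ≤ Nat.card T :=
      Nat.card_le_card_of_injective (fun b : B => (⟨x * b, hxT b b.2⟩ : T)) fun a b h =>
        Subtype.ext (mul_left_cancel (congrArg Subtype.val h))
    have htot : Nat.card B + Nat.card T = Nat.card G := by
      have : T = Bᶜ := by ext y; simp [hT, hBdef]
      rw [this, Nat.card_coe_set_eq, Nat.card_coe_set_eq, Set.ncard_add_ncard_compl]
    set δ := if p = 2 then 1 else 2 with hδ
    have hbig : ∀ y ∈ T, p + δ ≤ s y := by
      intro y hy
      have hy' : p < s y := hy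
      rw [hδ]
      split_ifs with h2
      · omega
      · have hoddn : Odd (Nat.card G) := by
          rw [← Nat.not_even_iff_odd, even_iff_two_dvd, ← Nat.minFac_eq_two_iff]
          exact fun h => h2 (hp.trans h)
        have hsy : Odd (s y) := hoddn.of_dvd_nat (Subgroup.index_dvd_card _)
        have hpo : Odd p := hprime.odd_of_ne_two h2
        obtain ⟨a, ha⟩ := hsy
        obtain ⟨c, hc⟩ := hpo
        omega
    refine orbits_le hp T (p + δ) (by have := hprime.pos; omega)
      (fun y hy => ⟨hTnc y hy, (hbig y hy).trans (index_le_orbit y)⟩) ?_ (by omega)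
    have hxs : p + δ ≤ s x := by
      refine hbig x (lt_of_le_of_ne (p_le_index hp hxC) fun h => hxk 1 ?_)
      rw [pow_one]; exact h.symm
    have hn : p * (p + δ) * Nat.card (center G) ≤ Nat.card G :=
      (Nat.mul_le_mul_right _ (Nat.mul_le_mul_left p hxs)).trans (card_bound hp hxC)
    have hp2 := hprime.two_le
    rw [Nat.add_sub_cancel_left]
    rcases eq_or_ne p 2 with h2 | h2
    · simp only [hδ, h2, if_true] at hn ⊢
      omega
    · simp only [hδ, h2, if_false] at hn ⊢
      have : (p + 2) * Nat.card (center G) * (p - 1) ≤ p * (p + 2) * Nat.card (center G) := by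
        calc (p + 2) * Nat.card (center G) * (p - 1) ≤ (p + 2) * Nat.card (center G) * p :=
              Nat.mul_le_mul_left _ (Nat.sub_le p 1)
          _ = _ := by ring
      omega
  · push Not at hA
    have hbig : ∀ y ∈ T, p ^ 2 ≤ s y := by
      intro y hy
      obtain ⟨k, hk⟩ := hA y
      have hy' : p ^ 1 < s y := by rw [pow_one]; exact hy
      rw [hk] at hy' ⊢
      exact Nat.pow_le_pow_right hprime.pos ((Nat.pow_lt_pow_iff_right hprime.one_lt).mp hy')
    refine orbits_le hp T (p ^ 2) (pow_pos hprime.pos 2)
      (fun y hy => ⟨hTnc y hy, (hbig y hy).trans (index_le_orbit y)⟩) ?_ (Nat.le_self_pow two_ne_zero p)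
    obtain ⟨x, hxT⟩ := hx
    replace hxT : x ∈ T := hxT
    have hxC := hTnc x hxT
    set q : G →* G ⧸ center G := QuotientGroup.mk' (center G) with hq
    have hcoprime : ∀ i : ℕ, i ≠ 0 → i < p → i.Coprime (Nat.card G) := by
      intro i hi0 hip
      refine Nat.coprime_of_dvd fun r hr hri hrn => ?_
      have h1 := Nat.le_of_dvd (Nat.pos_of_ne_zero hi0) hri
      have h2 : p ≤ r := hp ▸ Nat.minFac_le_of_dvd hr.two_le hrn
      omega
    have hpowT : ∀ i : ℕ, i ≠ 0 → i < p → x ^ i ∈ T := by
      intro i hi0 hip
      obtain ⟨e, he⟩ := exists_pow_eq_self_of_coprime (x := x) (n := i)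
        ((hcoprime i hi0 hip).coprime_dvd_right (orderOf_dvd_natCard x))
      have hc : centralizer ({x ^ i} : Set G) = centralizer ({x} : Set G) := by
        ext g
        rw [mem_centralizer_singleton_iff, mem_centralizer_singleton_iff]
        constructor
        · intro h
          have := Commute.pow_right (show Commute g (x ^ i) from h) e
          rw [he] at this
          exact this
        · exact fun h => Commute.pow_right (show Commute g x from h) i
      show p < s (x ^ i)
      have hxT' : p < s x := hxT
      simpa only [hs, hc] using hxT'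
    have hpowne : ∀ i : ℕ, i ≠ 0 → i < p → q x ^ i ≠ 1 := by
      intro i hi0 hip h
      rw [← map_pow] at h
      exact hTnc _ (hpowT i hi0 hip) ((QuotientGroup.eq_one_iff _).mp h)
    -- one more coset of the centre
    obtain ⟨y, hyT, hy⟩ : ∃ y ∈ T, q y ∉ Subgroup.zpowers (q x) ∨ p ≤ orderOf (q x) - 1 := by
      by_contra hall
      push Not at hall
      have hordlt := (hall x hxT).2
      have hord : orderOf (q x) = p := by
        have h1 : orderOf (q x) ≠ 1 := fun h => hpowne 1 one_ne_zero hprime.one_lt (by
          rw [pow_one]; exact orderOf_eq_one_iff.mp h)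
        have h2 : p ≤ orderOf (q x) := by
          rw [hp]
          exact Nat.minFac_le_of_dvd (by have := orderOf_pos (q x); omega)
            ((orderOf_map_dvd q x).trans (orderOf_dvd_natCard x))
        omega
      have hmem : ∀ y, q y ∈ Subgroup.zpowers (q x) → ∀ g ∈ centralizer ({x} : Set G), g * y = y * g := by
        intro y hy g hg
        obtain ⟨j, hj⟩ := Subgroup.mem_zpowers_iff.mp hy
        rw [← map_zpow] at hj
        have hz : (x ^ j)⁻¹ * y ∈ center G := by
          rw [← QuotientGroup.eq_one_iff]
          show q ((x ^ j)⁻¹ * y) = 1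
          rw [map_mul, map_inv, hj, inv_mul_cancel]
        have h1 : Commute g (x ^ j) :=
          (show Commute g x from mem_centralizer_singleton_iff.mp hg).zpow_right j
        have h2 : Commute g ((x ^ j)⁻¹ * y) := mem_center_iff.mp hz g
        have h3 := h1.mul_right h2
        rwa [mul_inv_cancel_left] at h3
      have hCZ : centralizer ({x} : Set G) ≤ center G := by
        intro g hg
        rw [mem_center_iff]
        intro y
        by_cases hy : q y ∈ Subgroup.zpowers (q x)
        · exact (hmem y hy g hg).symm
        have hyB : s y ≤ p := not_lt.mp fun h => hy ((hall y h).1)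
        have hxyB : s (x * y) ≤ p := not_lt.mp fun h => hy (by
          have := (hall _ h).1
          rw [map_mul] at this
          exact (Subgroup.mul_mem_cancel_left _ (Subgroup.mem_zpowers _)).mp this)
        set C1 := centralizer ({y} : Set G)
        set C2 := centralizer ({x * y} : Set G)
        have hle : C1 ⊓ C2 ≤ centralizer ({x} : Set G) := by
          intro g hg
          rw [mem_centralizer_singleton_iff]
          have h1 : Commute g (x * y) := mem_centralizer_singleton_iff.mp hg.2
          have h2 : Commute g y := mem_centralizer_singleton_iff.mp hg.1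
          have h3 := h1.mul_right h2.inv_right
          rwa [mul_inv_cancel_right] at h3
        have h12 : (C1 ⊓ C2).index ≤ p ^ 2 := by
          calc (C1 ⊓ C2).index ≤ C1.index * C2.index := Subgroup.index_inf_le
            _ ≤ p * p := Nat.mul_le_mul hyB hxyB
            _ = _ := (sq p).symm
        have heq : C1 ⊓ C2 = centralizer ({x} : Set G) := by
          refine Subgroup.eq_of_le_of_card_ge hle ?_
          have h1 := (C1 ⊓ C2).card_mul_index
          have h2 := (centralizer ({x} : Set G)).card_mul_index
          refine Nat.le_of_mul_le_mul_right ?_ (pow_pos hprime.pos 2)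
          calc Nat.card (centralizer ({x} : Set G)) * p ^ 2
              ≤ Nat.card (centralizer ({x} : Set G)) * s x := Nat.mul_le_mul_left _ (hbig x hxT)
            _ = Nat.card (C1 ⊓ C2 : Subgroup G) * (C1 ⊓ C2).index := h2.trans h1.symm
            _ ≤ _ := Nat.mul_le_mul_left _ h12
        rw [← heq] at hg
        exact (mem_centralizer_singleton_iff.mp hg.1).symm
      exact hxC (hCZ (mem_centralizer_singleton_iff.mpr rfl))
    -- `p` cosets inside `T`
    obtain ⟨r, hrT, hr⟩ : ∃ r : Fin p → G, (∀ i, r i ∈ T) ∧ Function.Injective (fun i => q (r i)) := by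
      have hinj : ∀ i j : ℕ, i < orderOf (q x) → j < orderOf (q x) → q x ^ i = q x ^ j → i = j :=
        fun i j hi hj h => pow_injOn_Iio_orderOf hi hj h
      have hordp : p ≤ orderOf (q x) := by
        by_contra h
        have := orderOf_pos (q x)
        exact hpowne (orderOf (q x)) (by omega) (by omega) (pow_orderOf_eq_one _)
      rcases hy with hy | hy
      · refine ⟨fun i => if (i : ℕ) = 0 then y else x ^ (i : ℕ), fun i => ?_, fun i j h => ?_⟩
        · dsimp only
          split_ifs with h
          · exact hyT
          · exact hpowT _ h i.2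
        · refine Fin.ext ?_
          by_cases hi : (i : ℕ) = 0 <;> by_cases hj : (j : ℕ) = 0
          · omega
          · simp only [hi, hj, if_true, if_false, map_pow] at h
            exact absurd (h ▸ Subgroup.pow_mem _ (Subgroup.mem_zpowers _) _) hy
          · simp only [hi, hj, if_true, if_false, map_pow] at h
            exact absurd (h ▸ Subgroup.pow_mem _ (Subgroup.mem_zpowers _) _) hy
          · simp only [hi, hj, if_false, map_pow] at h
            exact hinj _ _ (by omega) (by omega) h
      · -- the order of the image exceeds `p`: use powers and the inverse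
        refine ⟨fun i => if (i : ℕ) = 0 then x⁻¹ else x ^ (i : ℕ), fun i => ?_, fun i j h => ?_⟩
        · dsimp only
          split_ifs with h
          · show p < s x⁻¹
            have : centralizer ({x⁻¹} : Set G) = centralizer ({x} : Set G) := by
              ext g
              rw [mem_centralizer_singleton_iff, mem_centralizer_singleton_iff]
              exact ⟨fun h => (Commute.inv_right_iff.mp (show Commute g x⁻¹ from h)).eq,
                fun h => (show Commute g x from h).inv_right⟩
            have hxT' : p < s x := hxT
            simpa only [hs, this] using hxT'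
          · exact hpowT _ h i.2
        · refine Fin.ext ?_
          have key : ∀ j : Fin p, (j : ℕ) ≠ 0 → q x ^ (j : ℕ) ≠ (q x)⁻¹ := fun j _ hh => by
            have h1 : q x ^ ((j : ℕ) + 1) = q x ^ 0 := by rw [pow_succ, hh, inv_mul_cancel, pow_zero]
            have := hinj _ _ (by have := j.2; omega) (by omega) h1
            omega
          by_cases hi : (i : ℕ) = 0 <;> by_cases hj : (j : ℕ) = 0
          · omega
          · simp only [hi, hj, if_true, if_false, map_pow, map_inv] at h
            exact absurd h.symm (key j hj)
          · simp only [hi, hj, if_true, if_false, map_pow, map_inv] at h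
            exact absurd h (key i hi)
          · simp only [hi, hj, if_false, map_pow] at h
            exact hinj _ _ (by omega) (by omega) h
    have hcard : p * Nat.card (center G) ≤ Nat.card T := by
      have h := Nat.card_le_card_of_injective (fun v : Fin p × center G =>
        (⟨r v.1 * v.2, by
          show p < s (r v.1 * v.2)
          rw [hinv _ _ v.2.2]; exact hrT v.1⟩ : T)) fun a b h => by
        have h' : r a.1 * a.2 = r b.1 * b.2 := congrArg Subtype.val h
        have h1 : a.1 = b.1 := hr (by
          have := congrArg q h'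
          rwa [map_mul, map_mul, show q (a.2 : G) = 1 from (QuotientGroup.eq_one_iff _).mpr a.2.2,
            show q (b.2 : G) = 1 from (QuotientGroup.eq_one_iff _).mpr b.2.2, mul_one, mul_one] at this)
        rw [h1] at h'
        exact Prod.ext h1 (Subtype.ext (mul_left_cancel h'))
      rwa [Nat.card_prod, Nat.card_fin] at h
    calc p ^ 2 * Nat.card (center G) * (p - 1) = (p * Nat.card (center G)) * (p * (p - 1)) := by ring
      _ ≤ Nat.card T * (p * (p - 1)) := Nat.mul_le_mul_right _ hcard
      _ = _ := by rw [sq, Nat.mul_sub, mul_one]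

end Cfsg.Agent.AutOrbits
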