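/-
Orbits of the automorphism group when all classes have at most `p` elements, `p` the least prime divisor.

* `small_class`: translations or transvections fuse classes
-/
import Cfsg.Agent.Lib.AutOrbits.Basic
import Cfsg.Agent.Lib.PGroup.Omega
import Cfsg.Agent.Lib.BaerTrick.Basic

set_option autoImplicit false
set_option linter.unusedSectionVars false

namespace Cfsg.Agent.AutOrbits

open scoped commutatorElement
open Subgroup

variable {G : Type*} [Group G] [Finite G] {p : ℕ}

/-- Derived subgroup of order `p`, all classes of size at most `p`. -/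
theorem derived_card (hp : p = (Nat.card G).minFac) [hpp : Fact p.Prime] (hna : center G ≠ ⊤)
    (hall : ∀ x : G, (centralizer ({x} : Set G)).index ≤ p) :
    (∀ g h : G, ⁅g, h⁆ ∈ center G) ∧ (∀ g : G, g ^ p ∈ center G) ∧ Nat.card (commutator G) = p ∧
      p * p * Nat.card (center G) ≤ Nat.card G := by
  have hprime : p.Prime := hpp.out
  have hidx : ∀ x : G, x ∉ center G → (centralizer ({x} : Set G)).index = p := fun x hx =>
    le_antisymm (hall x) (p_le_index hp hx)
  have hkey : ∀ x g h : G, ⁅g, h⁆ ∈ centralizer ({x} : Set G) ∧ g ^ p ∈ centralizer ({x} : Set G) := by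
    intro x g h
    by_cases hx : x ∈ center G
    · rw [show centralizer ({x} : Set G) = ⊤ from
        Subgroup.index_eq_one.mp ((index_centralizer_eq_one_iff x).mpr hx)]
      exact ⟨mem_top _, mem_top _⟩
    set C := centralizer ({x} : Set G)
    haveI hn : C.Normal := Subgroup.normal_of_index_eq_minFac_card ((hidx x hx).trans hp)
    refine ⟨?_, ?_⟩
    · rw [← QuotientGroup.eq_one_iff]
      show QuotientGroup.mk' C ⁅g, h⁆ = 1
      rw [map_commutatorElement, commutatorElement_eq_one_iff_mul_comm]
      haveI : IsCyclic (G ⧸ C) := isCyclic_of_prime_card (p := p) (by rw [← Subgroup.index_eq_card, hidx x hx])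
      exact IsCyclic.commGroup.mul_comm _ _
    · have := C.pow_index_mem g
      rwa [hidx x hx] at this
  have hcz : ∀ g h : G, ⁅g, h⁆ ∈ center G := fun g h => mem_center_iff.mpr fun x =>
    (mem_centralizer_singleton_iff.mp (hkey x g h).1).symm
  have hpz : ∀ g : G, g ^ p ∈ center G := fun g => mem_center_iff.mpr fun x =>
    (mem_centralizer_singleton_iff.mp (hkey x g g).2).symm
  -- the commutators with `x`
  let P : G → Subgroup G := fun x =>
    (MonoidHom.mk' (fun g => ⁅x, g⁆) (fun a b => BaerTrick.commutator_mul_right hcz x a b) : G →* G).range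
  have hPcard : ∀ x, x ∉ center G → Nat.card (P x) = p := by
    intro x hx
    show Nat.card (MonoidHom.range _) = p
    rw [← Subgroup.index_ker, ← hidx x hx]
    congr 1
    ext g
    rw [MonoidHom.mem_ker, mem_centralizer_singleton_iff]
    show ⁅x, g⁆ = 1 ↔ _
    rw [commutatorElement_eq_one_iff_mul_comm]
    exact eq_comm
  have heqP : ∀ {x y d : G}, x ∉ center G → y ∉ center G → d ≠ 1 → d ∈ P x → d ∈ P y → P x = P y := by
    intro x y d hx hy hd hdx hdy
    have hgen : ∀ w, w ∉ center G → d ∈ P w → P w = zpowers d := by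
      intro w hw hdw
      refine (Subgroup.eq_of_le_of_card_ge (zpowers_le.mpr hdw) ?_).symm
      rw [hPcard w hw, Nat.card_zpowers]
      have h1 : orderOf d ∣ p := by
        rw [← hPcard w hw, ← Subgroup.orderOf_mk d hdw]
        exact orderOf_dvd_natCard _
      rcases (Nat.dvd_prime hprime).mp h1 with h | h
      · exact absurd (orderOf_eq_one_iff.mp h) hd
      · exact h.ge
    rw [hgen x hx hdx, hgen y hy hdy]
  have hdiff : ∀ x y, x ∉ center G → y ∉ center G →
      centralizer ({x} : Set G) ≠ centralizer ({y} : Set G) → P x = P y := by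
    intro x y hx hy hne
    have key : ∀ {x y : G}, x ∉ center G → y ∉ center G →
        centralizer ({x} : Set G) ≠ centralizer ({y} : Set G) →
        ∃ g, g ∈ centralizer ({y} : Set G) ∧ g ∉ centralizer ({x} : Set G) := by
      intro x y hx hy hne
      by_contra h
      push Not at h
      refine hne (Subgroup.eq_of_le_of_card_ge h ?_).symm
      have h1 := (centralizer ({x} : Set G)).card_mul_index
      have h2 := (centralizer ({y} : Set G)).card_mul_index
      rw [hidx x hx] at h1
      rw [hidx y hy] at h2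
      exact (Nat.eq_of_mul_eq_mul_right hprime.pos (h1.trans h2.symm)).le
    obtain ⟨g, hgy, hgx⟩ := key hx hy hne
    obtain ⟨h, hhx, hhy⟩ := key hy hx hne.symm
    have hgy1 : ⁅y, g⁆ = 1 := commutatorElement_eq_one_iff_mul_comm.mpr (mem_centralizer_singleton_iff.mp hgy).symm
    have hhx1 : ⁅x, h⁆ = 1 := commutatorElement_eq_one_iff_mul_comm.mpr (mem_centralizer_singleton_iff.mp hhx).symm
    have hg1 : ⁅x, g⁆ ≠ 1 := fun e => hgx (mem_centralizer_singleton_iff.mpr
      (commutatorElement_eq_one_iff_mul_comm.mp e).symm)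
    have hh1 : ⁅y, h⁆ ≠ 1 := fun e => hhy (mem_centralizer_singleton_iff.mpr
      (commutatorElement_eq_one_iff_mul_comm.mp e).symm)
    have hxyg : ⁅x * y, g⁆ = ⁅x, g⁆ := by rw [BaerTrick.commutator_mul_left hcz, hgy1, mul_one]
    have hxyh : ⁅x * y, h⁆ = ⁅y, h⁆ := by rw [BaerTrick.commutator_mul_left hcz, hhx1, one_mul]
    have hxy : x * y ∉ center G := fun hz => hg1 (by
      rw [← hxyg]; exact commutatorElement_eq_one_iff_mul_comm.mpr (mem_center_iff.mp hz g).symm)
    rw [heqP hx hxy hg1 ⟨g, rfl⟩ ⟨g, hxyg⟩, heqP hy hxy hh1 ⟨h, rfl⟩ ⟨h, hxyh⟩]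
  obtain ⟨x₀, hx₀⟩ : ∃ x₀ : G, x₀ ∉ center G := by
    by_contra h
    push Not at h
    exact hna (eq_top_iff.mpr fun x _ => h x)
  -- some element moves off any given centralizer
  have hexists : ∀ x, x ∉ center G → ∃ z, z ∉ center G ∧
      centralizer ({z} : Set G) ≠ centralizer ({x} : Set G) := by
    intro x hx
    by_contra h
    push Not at h
    have hle : centralizer ({x} : Set G) ≤ center G := by
      intro g hg
      rw [mem_center_iff]
      intro z
      by_cases hz : z ∈ center G
      · exact (mem_center_iff.mp hz g).symm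
      · rw [← h z hz] at hg
        exact (mem_centralizer_singleton_iff.mp hg).symm
    exact hx (hle (mem_centralizer_singleton_iff.mpr rfl))
  have hPeq : ∀ x, x ∉ center G → P x = P x₀ := by
    intro x hx
    by_cases h : centralizer ({x} : Set G) = centralizer ({x₀} : Set G)
    · obtain ⟨z, hz, hzne⟩ := hexists x₀ hx₀
      rw [← hdiff z x₀ hz hx₀ hzne, ← hdiff z x hz hx (fun e => hzne (e.trans h))]
    · exact hdiff x x₀ hx hx₀ h
  have hcom : commutator G = P x₀ := by
    refine le_antisymm ?_ ?_
    · rw [commutator_def, Subgroup.commutator_le]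
      intro g _ h _
      by_cases hg : g ∈ center G
      · rw [commutatorElement_eq_one_iff_mul_comm.mpr (mem_center_iff.mp hg h).symm]
        exact one_mem _
      · exact hPeq g hg ▸ ⟨h, rfl⟩
    · rintro _ ⟨g, rfl⟩
      exact Subgroup.commutator_mem_commutator (mem_top _) (mem_top _)
  refine ⟨hcz, hpz, by rw [hcom, hPcard x₀ hx₀], ?_⟩
  have h := card_bound hp hx₀
  rwa [hidx x₀ hx₀] at h

/-- The orbit of a noncentral element moved by `p` translations. -/
theorem orbit_sq [hpp : Fact p.Prime] (hcz : ∀ g h : G, ⁅g, h⁆ ∈ center G)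
    (hcard : Nat.card (commutator G) = p) (hp : p = (Nat.card G).minFac) {x : G} (hx : x ∉ center G)
    (α : MulAut G) {w : G} (hαx : α x = x * w) (hαw : α w = w)
    (hw : ∀ i : ℕ, i ≠ 0 → i < p → w ^ i ∉ commutator G) :
    p ^ 2 ≤ Nat.card (MulAction.orbit (MulAut G) x) := by
  have hclass : ∀ y, y ∉ center G → ∀ d ∈ commutator G, ∃ g : G, g * y * g⁻¹ = y * d := by
    intro y hy d hd
    have hsub : (Set.range fun g : G => g * y * g⁻¹) ⊆ (fun d => y * d) '' (commutator G : Set G) := by
      rintro _ ⟨g, rfl⟩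
      refine ⟨⁅g, y⁆, Subgroup.commutator_mem_commutator (mem_top _) (mem_top _), ?_⟩
      show y * ⁅g, y⁆ = g * y * g⁻¹
      rw [mem_center_iff.mp (hcz g y) y, commutatorElement_def, inv_mul_cancel_right]
    have heq : (Set.range fun g : G => g * y * g⁻¹) = (fun d => y * d) '' (commutator G : Set G) := by
      refine Set.eq_of_subset_of_ncard_le hsub ?_ (Set.toFinite _)
      rw [Set.ncard_image_of_injective _ (mul_right_injective y), ← Nat.card_coe_set_eq,
        ← Nat.card_coe_set_eq]
      rw [card_conjugates]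
      exact hcard.le.trans (p_le_index hp hy)
    have : y * d ∈ (fun d => y * d) '' (commutator G : Set G) := ⟨d, hd, rfl⟩
    rwa [← heq] at this
  have hiter : ∀ i : ℕ, (α ^ i) x = x * w ^ i ∧ (α ^ i) w = w := by
    intro i
    induction i with
    | zero => simp
    | succ i ih =>
      rw [pow_succ']
      refine ⟨?_, ?_⟩
      · rw [MulAut.mul_apply, ih.1, map_mul, map_pow, hαx, hαw, mul_assoc, ← pow_succ']
      · rw [MulAut.mul_apply, ih.2, hαw]
  have hnc : ∀ i : ℕ, x * w ^ i ∉ center G := by
    intro i h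
    apply hx
    rw [← (hiter i).1] at h
    rw [mem_center_iff] at h ⊢
    intro g
    refine (α ^ i).injective ?_
    rw [map_mul, map_mul]
    exact h _
  have hmem : ∀ v : Fin p × commutator G, x * w ^ (v.1 : ℕ) * v.2 ∈ MulAction.orbit (MulAut G) x := by
    intro v
    obtain ⟨g, hg⟩ := hclass _ (hnc v.1) v.2 v.2.2
    refine ⟨MulAut.conj g * α ^ (v.1 : ℕ), ?_⟩
    show MulAut.conj g ((α ^ (v.1 : ℕ)) x) = _
    rw [(hiter _).1, MulAut.conj_apply, hg]
  have hinj : ∀ {i j : ℕ} {d e : G}, i ≤ j → j < p → d ∈ commutator G → e ∈ commutator G →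
      x * w ^ i * d = x * w ^ j * e → i = j := by
    intro i j d e hij hj hd he h
    by_contra hne
    refine hw (j - i) (by omega) (by omega) ?_
    rw [show j = i + (j - i) by omega, pow_add, mul_assoc, mul_assoc, mul_left_cancel_iff,
      mul_assoc, mul_left_cancel_iff] at h
    rw [eq_mul_inv_of_mul_eq h.symm]
    exact mul_mem hd (inv_mem he)
  have h := Nat.card_le_card_of_injective
    (fun v : Fin p × commutator G => (⟨_, hmem v⟩ : MulAction.orbit (MulAut G) x)) fun a b h => by
      have h' : x * w ^ (a.1 : ℕ) * (a.2 : G) = x * w ^ (b.1 : ℕ) * (b.2 : G) := congrArg Subtype.val h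
      have h1 : (a.1 : ℕ) = (b.1 : ℕ) := by
        rcases le_total (a.1 : ℕ) (b.1 : ℕ) with hab | hab
        · exact hinj hab b.1.2 a.2.2 b.2.2 h'
        · exact (hinj hab a.1.2 b.2.2 a.2.2 h'.symm).symm
      rw [h1] at h'
      exact Prod.ext (Fin.ext h1) (Subtype.ext (mul_left_cancel h'))
  rwa [Nat.card_prod, Nat.card_fin, hcard, ← sq] at h

/-- The translation case. -/
theorem translation_case [Nontrivial G] [hpp : Fact p.Prime] (hp : p = (Nat.card G).minFac)
    (hcz : ∀ g h : G, ⁅g, h⁆ ∈ center G) (hcard : Nat.card (commutator G) = p)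
    (hbig : p * p * Nat.card (center G) ≤ Nat.card G)
    {z : G} (hz : z ∈ center G) (hzp : z ^ p = 1) (hzc : z ∉ commutator G) :
    Nat.card (MulAction.orbitRel.Quotient (MulAut G) G) ≤ Nat.card G / p := by
  have hprime : p.Prime := hpp.out
  have hzord : orderOf z = p := orderOf_eq_prime hzp fun h => hzc (h ▸ one_mem _)
  have horb : ∀ x : G, x ∉ center G → p ^ 2 ≤ Nat.card (MulAction.orbit (MulAut G) x) := by
    intro x hx
    obtain ⟨v, hv⟩ : ∃ v, ⁅v, x⁆ ≠ 1 := by
      by_contra h
      push Not at h
      exact hx (mem_center_iff.mpr fun v => commutatorElement_eq_one_iff_mul_comm.mp (h v))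
    set d : commutator G := ⟨⁅v, x⁆, Subgroup.commutator_mem_commutator (mem_top _) (mem_top _)⟩
    have hd : d ≠ 1 := fun h => hv (congrArg Subtype.val h)
    -- the homomorphism `d ↦ z`
    let e : commutator G ≃* ↥(zpowers z) :=
      mulEquivOfPrimeCardEq (p := p) hcard (by rw [Nat.card_zpowers, hzord])
    have hz' : (⟨z, mem_zpowers z⟩ : ↥(zpowers z)) ∈ zpowers (e d) := by
      have : zpowers (e d) = ⊤ := by
        refine Subgroup.eq_top_of_card_eq _ ?_
        rw [Nat.card_zpowers, e.orderOf_eq, Nat.card_zpowers, hzord]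
        exact orderOf_eq_prime (orderOf_dvd_iff_pow_eq_one.mp (hcard ▸ orderOf_dvd_natCard d)) hd
      rw [this]; exact mem_top _
    obtain ⟨k, hk⟩ := Subgroup.mem_zpowers_iff.mp hz'
    let β : G →* commutator G := MonoidHom.mk'
      (fun g => ⟨⁅v, g⁆, Subgroup.commutator_mem_commutator (mem_top _) (mem_top _)⟩)
      (fun a b => Subtype.ext (BaerTrick.commutator_mul_right hcz v a b))
    let f : G →* G := MonoidHom.mk' (fun g => ((e (β g) : ↥(zpowers z)) : G) ^ k) fun a b => by
      rw [map_mul, map_mul, Subgroup.coe_mul]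
      exact Commute.mul_zpow (mem_center_iff.mp (zpowers_le.mpr hz (e (β b)).2) _) k
    have hfx : f x = z := by
      show ((e (β x) : ↥(zpowers z)) : G) ^ k = z
      rw [show β x = d from rfl, ← Subgroup.coe_zpow, hk]
    have hfz : ∀ g, f g ∈ zpowers z := fun g => zpow_mem (e (β g)).2 k
    have hfc : ∀ g, f g ∈ center G := fun g => zpowers_le.mpr hz (hfz g)
    have hff : ∀ g ∈ center G, f g = 1 := fun g hg => by
      have h1 : β g = 1 := Subtype.ext (commutatorElement_eq_one_iff_mul_comm.mpr (mem_center_iff.mp hg v))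
      show ((e (β g) : ↥(zpowers z)) : G) ^ k = 1
      rw [h1, map_one, Subgroup.coe_one, one_zpow]
    let a : G →* G := MonoidHom.mk' (fun g => g * f g) fun g h => by
      show g * h * f (g * h) = g * f g * (h * f h)
      rw [map_mul]
      calc g * h * (f g * f h) = g * (h * f g) * f h := by group
        _ = g * (f g * h) * f h := by rw [mem_center_iff.mp (hfc g) h]
        _ = _ := by group
    have ha : Function.Injective a := by
      rw [injective_iff_map_eq_one]
      intro g hg
      have hg' : g * f g = 1 := hg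
      have hgz : g ∈ center G := by
        rw [eq_inv_of_mul_eq_one_left hg']; exact inv_mem (hfc g)
      rwa [hff g hgz, mul_one] at hg'
    let α : MulAut G := MulEquiv.ofBijective a ⟨ha, Finite.injective_iff_surjective.mp ha⟩
    refine orbit_sq hcz hcard hp hx α (w := z) ?_ ?_ ?_
    · show x * f x = x * z
      rw [hfx]
    · show z * f z = z
      rw [hff z hz, mul_one]
    · intro i hi0 hip hi
      apply hzc
      have hcop : i.Coprime (orderOf z) := by
        rw [hzord]
        exact (hprime.coprime_iff_not_dvd.mpr fun h => absurd (Nat.le_of_dvd (by omega) h) (by omega)).symm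
      obtain ⟨e, he⟩ := exists_pow_eq_self_of_coprime hcop
      rw [← he]
      exact pow_mem hi e
  refine orbits_le hp {x : G | x ∉ center G} (p ^ 2) (pow_pos hprime.pos 2) (fun x hx => ⟨hx, horb x hx⟩) ?_
    (Nat.le_self_pow two_ne_zero p)
  have h1 : Nat.card {x : G | x ∉ center G} + Nat.card (center G) = Nat.card G := by
    have hset : ({x : G | x ∉ center G} : Set G) = ((center G : Set G))ᶜ := rfl
    have h := Set.ncard_add_ncard_compl (center G : Set G)
    rw [← Nat.card_coe_set_eq, ← Nat.card_coe_set_eq, ← hset] at h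
    rw [← h, add_comm]
    rfl
  have h2 : p * Nat.card (center G) ≤ Nat.card {x : G | x ∉ center G} := by
    have h3 : (p + 1) * Nat.card (center G) ≤ p * p * Nat.card (center G) := by
      refine Nat.mul_le_mul_right _ ?_
      have := hprime.two_le
      nlinarith
    have := h3.trans hbig
    rw [add_mul, one_mul] at this
    omega
  calc p ^ 2 * Nat.card (center G) * (p - 1) = (p * Nat.card (center G)) * (p * (p - 1)) := by ring
    _ ≤ Nat.card {x : G | x ∉ center G} * (p * (p - 1)) := Nat.mul_le_mul_right _ h2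
    _ = _ := by rw [sq, Nat.mul_sub, mul_one]

end Cfsg.Agent.AutOrbits
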