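/-
The transvection case for orbits of the automorphism group.

* `exists_transvector`, `transvection_case`, `orbits_bound`
-/
import Cfsg.Agent.Lib.AutOrbits.Small

set_option autoImplicit false
set_option linter.unusedSectionVars false

namespace Cfsg.Agent.AutOrbits

open scoped commutatorElement
open Subgroup

variable {G : Type*} [Group G] [Finite G] {p : ℕ}

theorem zmod_two_cases : ∀ a : ZMod 2, a = 0 ∨ a = 1 := by decide

/-- A noncentral element usable as centre of a transvection. -/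
theorem exists_transvector [hpp : Fact p.Prime] (hna : center G ≠ ⊤)
    (hcz : ∀ g h : G, ⁅g, h⁆ ∈ center G) (hpz : ∀ g : G, g ^ p ∈ center G)
    (hcard : Nat.card (commutator G) = p)
    (huniq : ∀ z ∈ center G, z ^ p = 1 → z ∈ commutator G) :
    ∃ u : G, u ∉ center G ∧
      ((p ≠ 2 ∧ u ^ p = 1) ∨ (p = 2 ∧ u ^ 2 ≠ 1 ∧ u ^ 2 ∈ commutator G)) := by
  have hprime : p.Prime := hpp.out
  have hcp : ∀ g h : G, ⁅g, h⁆ ^ p = 1 := fun g h => by
    rw [← orderOf_dvd_iff_pow_eq_one,
      ← Subgroup.orderOf_mk ⁅g, h⁆ (Subgroup.commutator_mem_commutator (mem_top g) (mem_top h))]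
    exact hcard ▸ orderOf_dvd_natCard _
  -- noncommuting `p`-elements
  obtain ⟨g, hg⟩ : ∃ g : G, g ∉ center G := by
    by_contra h
    push Not at h
    exact hna (eq_top_iff.mpr fun x _ => h x)
  obtain ⟨h, hgh⟩ : ∃ h : G, ⁅g, h⁆ ≠ 1 := by
    by_contra hh
    push Not at hh
    exact hg (mem_center_iff.mpr fun v => (commutatorElement_eq_one_iff_mul_comm.mp (hh v)).symm)
  obtain ⟨e, r, hr, hn⟩ := Nat.exists_eq_pow_mul_and_not_dvd (Nat.card_pos (α := G)).ne' p hprime.ne_one
  have hrp : r.Coprime p := (hprime.coprime_iff_not_dvd.mpr hr).symm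
  have hcom : ⁅g ^ r, h ^ r⁆ ≠ 1 := by
    intro hc
    apply hgh
    rw [← PGroup.classTwo_pow_commutator hcz g (h ^ r) r] at hc
    have h2 : ⁅g, h ^ r⁆ = ⁅g, h⁆ ^ r := by
      rw [← commutatorElement_inv, ← PGroup.classTwo_pow_commutator hcz h g r, ← inv_pow, commutatorElement_inv]
    rw [h2, ← pow_mul] at hc
    have h3 : orderOf ⁅g, h⁆ ∣ p := orderOf_dvd_of_pow_eq_one (hcp g h)
    have h4 : orderOf ⁅g, h⁆ ∣ r * r := orderOf_dvd_of_pow_eq_one hc
    exact orderOf_eq_one_iff.mp (Nat.eq_one_of_dvd_coprimes ((hrp.mul_left hrp)) h4 h3)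
  have hpel : ∀ v : G, (v ^ r) ^ p ^ e = 1 := fun v => by
    rw [← pow_mul, mul_comm, ← hn]; exact pow_card_eq_one'
  -- in the centre `p`-elements are ordered by their orders
  have hcyc : ∀ (k : ℕ) (w w' : G), w ∈ center G → w' ∈ center G → w ^ p ^ k = 1 →
      (∃ j, k ≤ j ∧ orderOf w' = p ^ j) → w ∈ zpowers w' := by
    intro k
    induction k with
    | zero => intro w w' _ _ hw _; rw [pow_zero, pow_one] at hw; rw [hw]; exact one_mem _
    | succ k ih =>
      intro w w' hwz hw'z hw ⟨j, hkj, hj⟩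
      obtain ⟨t, ht⟩ := mem_powers_iff_mem_zpowers.mpr
        (ih (w ^ p) w' (pow_mem hwz p) hw'z (by rw [← pow_mul, ← pow_succ']; exact hw) ⟨j, by omega, hj⟩)
      simp only at ht
      have hdvd : p ^ j ∣ t * p ^ k := by
        rw [← hj, orderOf_dvd_iff_pow_eq_one, pow_mul, ht, ← pow_mul, ← pow_succ']
        exact hw
      obtain ⟨i, rfl⟩ := Nat.exists_eq_add_of_le hkj
      have hpt : p ∣ t := by
        have h1 : p ^ (i + 1) ∣ t := by
          refine (Nat.mul_dvd_mul_iff_right (pow_pos hprime.pos k)).mp ?_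
          rw [← pow_add, show i + 1 + k = k + 1 + i by omega]
          exact hdvd
        exact (dvd_pow_self p (Nat.succ_ne_zero i)).trans h1
      obtain ⟨t', rfl⟩ := hpt
      have hw1 : (w * (w' ^ t')⁻¹) ^ p = 1 := by
        rw [(show Commute w (w' ^ t')⁻¹ from mem_center_iff.mp (inv_mem (pow_mem hw'z t')) w).mul_pow,
          inv_pow, ← pow_mul, mul_comm t' p, ht, mul_inv_cancel]
      have hmemc : w * (w' ^ t')⁻¹ ∈ commutator G :=
        huniq _ (mul_mem hwz (inv_mem (pow_mem hw'z t'))) hw1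
      have hsub : commutator G ≤ zpowers w' := by
        set d := w' ^ p ^ (k + i) with hd
        have hdp : d ^ p = 1 := by
          rw [hd, ← pow_mul, ← pow_succ, show k + i + 1 = k + 1 + i by omega, ← hj]
          exact pow_orderOf_eq_one w'
        have hd1 : d ≠ 1 := fun h => by
          have := orderOf_dvd_of_pow_eq_one h
          rw [hj] at this
          have := (Nat.pow_dvd_pow_iff_le_right hprime.one_lt).mp this
          omega
        have heq : zpowers d = commutator G := by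
          refine Subgroup.eq_of_le_of_card_ge
            (zpowers_le.mpr (huniq d (pow_mem hw'z _) hdp)) ?_
          rw [hcard, Nat.card_zpowers, orderOf_eq_prime hdp hd1]
        rw [← heq]
        exact zpowers_le.mpr (pow_mem (mem_zpowers w') _)
      have := mul_mem (hsub hmemc) (pow_mem (mem_zpowers w') t')
      rwa [inv_mul_cancel_right] at this
  -- order the pair
  obtain ⟨u₀, v₀, hu₀, hv₀, huv, hle⟩ : ∃ u₀ v₀ : G, u₀ ^ p ^ e = 1 ∧ v₀ ^ p ^ e = 1 ∧ ⁅u₀, v₀⁆ ≠ 1 ∧
      orderOf u₀ ≤ orderOf v₀ := by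
    rcases le_total (orderOf (g ^ r)) (orderOf (h ^ r)) with hle | hle
    · exact ⟨_, _, hpel g, hpel h, hcom, hle⟩
    · refine ⟨_, _, hpel h, hpel g, fun h' => hcom ?_, hle⟩
      rw [← commutatorElement_inv, h', inv_one]
  obtain ⟨i, -, hi⟩ := (Nat.dvd_prime_pow hprime).mp (orderOf_dvd_of_pow_eq_one hu₀)
  obtain ⟨j, -, hj⟩ := (Nat.dvd_prime_pow hprime).mp (orderOf_dvd_of_pow_eq_one hv₀)
  have hij : i ≤ j := by rw [hi, hj] at hle; exact (Nat.pow_le_pow_iff_right hprime.one_lt).mp hle
  have hi1 : i ≠ 0 := fun h => huv (by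
    rw [h, pow_zero, orderOf_eq_one_iff] at hi
    rw [hi, commutatorElement_one_left])
  have hmem : u₀ ^ p ∈ zpowers (v₀ ^ p) := by
    refine hcyc (i - 1) _ _ (hpz _) (hpz _) ?_ ⟨j - 1, by omega, ?_⟩
    · rw [← pow_mul, ← pow_succ', show i - 1 + 1 = i by omega, ← hi]
      exact pow_orderOf_eq_one u₀
    · rw [orderOf_pow, hj, Nat.gcd_eq_right (dvd_pow_self p (by omega))]
      rw [show p ^ j = p ^ (j - 1) * p by rw [← pow_succ]; congr 1; omega, Nat.mul_div_cancel _ hprime.pos]
  obtain ⟨m, hm⟩ := mem_powers_iff_mem_zpowers.mpr hmem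
  simp only at hm
  set u := u₀ * (v₀ ^ m)⁻¹ with hu
  have hcomu : ⁅u, v₀⁆ = ⁅u₀, v₀⁆ := by
    have h1 : ⁅(v₀ ^ m)⁻¹, v₀⁆ = 1 := commutatorElement_eq_one_iff_mul_comm.mpr
      (Commute.inv_left (Commute.pow_self v₀ m))
    rw [hu, BaerTrick.commutator_mul_left hcz, h1, mul_one]
  have huc : u ∉ center G := fun h => huv (by
    rw [← hcomu]
    exact commutatorElement_eq_one_iff_mul_comm.mpr (mem_center_iff.mp h v₀).symm)
  rcases eq_or_ne p 2 with h2 | h2
  · subst h2
    have husq : u ^ 2 ∈ commutator G := by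
      have h1 : u ^ 2 = u₀ ^ 2 * ((v₀ ^ m)⁻¹) ^ 2 * ⁅(v₀ ^ m)⁻¹, u₀⁆ := by
        rw [hu]
        set b := (v₀ ^ m)⁻¹
        have hc := mem_center_iff.mp (hcz b u₀)
        calc (u₀ * b) ^ 2 = u₀ * (⁅b, u₀⁆ * u₀) * (b * b) := by
              rw [pow_two, commutatorElement_def]; group
          _ = u₀ * (u₀ * ⁅b, u₀⁆) * (b * b) := by rw [hc u₀]
          _ = u₀ * u₀ * (⁅b, u₀⁆ * (b * b)) := by group
          _ = u₀ * u₀ * (b * b * ⁅b, u₀⁆) := by rw [hc (b * b)]
          _ = _ := by rw [pow_two, pow_two]; group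
      rw [h1, inv_pow, ← pow_mul, mul_comm m 2, pow_mul, hm, mul_inv_cancel, one_mul]
      exact Subgroup.commutator_mem_commutator (mem_top _) (mem_top _)
    by_cases hu2 : u ^ 2 = 1
    · -- need a square root of the generator of the derived subgroup
      have key : ∀ x : G, x ∉ center G → x ^ 2 ≠ 1 → (∃ k, x ^ 2 ^ k = 1) →
          ∃ u : G, u ∉ center G ∧ ((2 ≠ 2 ∧ u ^ 2 = 1) ∨ (2 = 2 ∧ u ^ 2 ≠ 1 ∧ u ^ 2 ∈ commutator G)) := by
        intro x hx hx2 ⟨k, hk⟩
        by_cases hxc : x ^ 2 ∈ commutator G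
        · exact ⟨x, hx, Or.inr ⟨rfl, hx2, hxc⟩⟩
        have hxz := hpz x
        obtain ⟨l, -, hl⟩ := (Nat.dvd_prime_pow Nat.prime_two).mp
          (orderOf_dvd_of_pow_eq_one (x := x ^ 2) (n := 2 ^ k) (by rw [← pow_mul, mul_comm, pow_mul, hk, one_pow]))
        have hl2 : 2 ≤ l := by
          by_contra hl'
          refine hxc (huniq _ hxz ?_)
          rw [← orderOf_dvd_iff_pow_eq_one, hl]
          exact (pow_dvd_pow 2 (show l ≤ 1 by omega)).trans (pow_one 2).dvd
        set s := (x ^ 2) ^ 2 ^ (l - 2) with hs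
        have hsz : s ∈ center G := pow_mem hxz _
        have hs4 : (s ^ 2) ^ 2 = 1 := by
          rw [hs, ← pow_mul, ← pow_mul, show 2 ^ (l - 2) * (2 * 2) = 2 ^ l by
            rw [← mul_assoc, ← pow_succ, ← pow_succ]; congr 1; omega, ← hl]
          exact pow_orderOf_eq_one _
        have hs2 : s ^ 2 ≠ 1 := fun h => by
          rw [hs, ← pow_mul, ← pow_succ] at h
          have := orderOf_dvd_of_pow_eq_one h
          rw [hl] at this
          have := (Nat.pow_dvd_pow_iff_le_right (by norm_num)).mp this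
          omega
        refine ⟨u * s, fun h => huc ?_, Or.inr ⟨rfl, ?_, ?_⟩⟩
        · have := mul_mem h (inv_mem hsz)
          rwa [mul_inv_cancel_right] at this
        · rw [(show Commute u s from mem_center_iff.mp hsz u).mul_pow, hu2, one_mul]; exact hs2
        · rw [(show Commute u s from mem_center_iff.mp hsz u).mul_pow, hu2, one_mul]
          exact huniq _ (pow_mem hsz 2) hs4
      by_cases hu₀2 : u₀ ^ 2 = 1
      · by_cases hv₀2 : v₀ ^ 2 = 1
        · -- then the product has order four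
          have hne : (u₀ * v₀) ^ 2 ≠ 1 := fun h => huv (by
            rw [pow_two] at hu₀2 hv₀2 h
            rw [commutatorElement_def, inv_eq_of_mul_eq_one_right hu₀2, inv_eq_of_mul_eq_one_right hv₀2]
            rw [mul_assoc (u₀ * v₀)]; exact h)
          refine key (u₀ * v₀) (fun h => huv ?_) hne ⟨2, ?_⟩
          · have h1 : ⁅u₀ * v₀, v₀⁆ = 1 := commutatorElement_eq_one_iff_mul_comm.mpr (mem_center_iff.mp h v₀).symm
            rwa [BaerTrick.commutator_mul_left hcz, show ⁅v₀, v₀⁆ = 1 from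
              commutatorElement_eq_one_iff_mul_comm.mpr rfl, mul_one] at h1
          · rw [show (2 : ℕ) ^ 2 = 2 * 2 from rfl, pow_mul]
            have h1 : (u₀ * v₀) ^ 2 = ⁅u₀, v₀⁆ := by
              rw [pow_two] at hu₀2 hv₀2 ⊢
              rw [commutatorElement_def, inv_eq_of_mul_eq_one_right hu₀2, inv_eq_of_mul_eq_one_right hv₀2]
              group
            rw [h1, hcp]
        · exact key v₀ (fun h => huv (commutatorElement_eq_one_iff_mul_comm.mpr
            (mem_center_iff.mp h u₀))) hv₀2 ⟨e, hv₀⟩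
      · exact key u₀ (fun h => huv (commutatorElement_eq_one_iff_mul_comm.mpr
          (mem_center_iff.mp h v₀).symm)) hu₀2 ⟨e, hu₀⟩
    · exact ⟨u, huc, Or.inr ⟨rfl, hu2, husq⟩⟩
  · refine ⟨u, huc, Or.inl ⟨h2, ?_⟩⟩
    rw [hu, PGroup.mul_pow_classTwo hprime h2 hcz (hpz _), inv_pow, ← pow_mul, mul_comm m p, pow_mul, hm,
      mul_inv_cancel]

/-- The transvection case. -/
theorem transvection_case [Nontrivial G] [hpp : Fact p.Prime] (hp : p = (Nat.card G).minFac)
    (hcz : ∀ g h : G, ⁅g, h⁆ ∈ center G) (hpz : ∀ g : G, g ^ p ∈ center G)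
    (hcard : Nat.card (commutator G) = p)
    (hbig : p * p * Nat.card (center G) ≤ Nat.card G)
    {u : G} (hu : u ∉ center G)
    (hu2 : (p ≠ 2 ∧ u ^ p = 1) ∨ (p = 2 ∧ u ^ 2 ≠ 1 ∧ u ^ 2 ∈ commutator G)) :
    Nat.card (MulAction.orbitRel.Quotient (MulAut G) G) ≤ Nat.card G / p := by
  have hprime : p.Prime := hpp.out
  obtain ⟨v, hv⟩ : ∃ v : G, ⁅u, v⁆ ≠ 1 := by
    by_contra h
    push Not at h
    exact hu (mem_center_iff.mpr fun v => (commutatorElement_eq_one_iff_mul_comm.mp (h v)).symm)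
  set c := ⁅u, v⁆ with hc
  have hcmem : c ∈ commutator G := Subgroup.commutator_mem_commutator (mem_top _) (mem_top _)
  have hcord : orderOf c = p := by
    have h1 : orderOf c ∣ p := by
      rw [← Subgroup.orderOf_mk c hcmem]; exact hcard ▸ orderOf_dvd_natCard _
    exact ((Nat.dvd_prime hprime).mp h1).resolve_left fun h => hv (orderOf_eq_one_iff.mp h)
  have hzc : zpowers c = commutator G :=
    Subgroup.eq_of_le_of_card_ge (zpowers_le.mpr hcmem) (by rw [hcard, Nat.card_zpowers, hcord])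
  have hgen : ∀ d ∈ commutator G, ∃ a : ZMod p, c ^ a.val = d := by
    intro d hd
    rw [← hzc] at hd
    obtain ⟨t, ht⟩ := mem_powers_iff_mem_zpowers.mpr hd
    refine ⟨(t : ZMod p), ?_⟩
    rw [ZMod.val_natCast, ← hcord, pow_mod_orderOf]
    exact ht
  -- exponents of elements of order dividing `p`
  have hadd : ∀ {w : G}, w ^ p = 1 → ∀ a b : ZMod p, w ^ (a + b).val = w ^ a.val * w ^ b.val := by
    intro w hw a b
    rw [ZMod.val_add, ← pow_add]
    conv_rhs => rw [← Nat.mod_add_div (a.val + b.val) p, pow_add, pow_mul, hw, one_pow, mul_one]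
  have hcinj : ∀ a b : ZMod p, c ^ a.val = c ^ b.val → a = b := fun a b h =>
    ZMod.val_injective p (pow_injOn_Iio_orderOf (by rw [hcord]; exact a.val_lt) (by rw [hcord]; exact b.val_lt) h)
  have hcp : c ^ p = 1 := by rw [← hcord]; exact pow_orderOf_eq_one c
  choose φ hφ using fun g : G => hgen ⁅u, g⁆ (Subgroup.commutator_mem_commutator (mem_top _) (mem_top _))
  have hφmul : ∀ g h, φ (g * h) = φ g + φ h := fun g h => hcinj _ _ (by
    rw [hφ, hadd hcp, hφ, hφ, BaerTrick.commutator_mul_right hcz])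
  have hφcen : ∀ z ∈ center G, φ z = 0 := fun z hz => hcinj _ _ (by
    rw [hφ, ZMod.val_zero, pow_zero]
    exact commutatorElement_eq_one_iff_mul_comm.mpr (mem_center_iff.mp hz u))
  have hφu : φ u = 0 := hcinj _ _ (by
    rw [hφ, ZMod.val_zero, pow_zero]
    exact commutatorElement_eq_one_iff_mul_comm.mpr rfl)
  have hφv : φ v = 1 := hcinj _ _ (by rw [hφ, ZMod.val_one, pow_one])
  have hcz' : ∀ (a : ZMod p), c ^ a.val ∈ center G := fun a => pow_mem (hcz u v) _
  -- the correction term
  obtain ⟨q, hq⟩ : ∃ q : ZMod p → ZMod p, ∀ a b,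
      u ^ a.val * c ^ (q a).val * (u ^ b.val * c ^ (q b).val) * c ^ (a * b).val =
        u ^ (a + b).val * c ^ (q (a + b)).val := by
    have hre : ∀ a b s t : ZMod p, u ^ a.val * c ^ s.val * (u ^ b.val * c ^ t.val) =
        u ^ a.val * u ^ b.val * (c ^ s.val * c ^ t.val) := fun a b s t => by
      calc u ^ a.val * c ^ s.val * (u ^ b.val * c ^ t.val)
          = u ^ a.val * (c ^ s.val * u ^ b.val) * c ^ t.val := by group
        _ = u ^ a.val * (u ^ b.val * c ^ s.val) * c ^ t.val := by rw [mem_center_iff.mp (hcz' s) (u ^ b.val)]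
        _ = _ := by group
    rcases hu2 with ⟨h2, hup⟩ | ⟨h2, hsq1, hsq⟩
    · haveI : NeZero (2 : ZMod p) := ⟨by
        intro h
        have : ((2 : ℕ) : ZMod p) = 0 := by exact_mod_cast h
        rw [ZMod.natCast_eq_zero_iff] at this
        exact h2 ((Nat.prime_dvd_prime_iff_eq hprime Nat.prime_two).mp this)⟩
      refine ⟨fun a => a * a / 2, fun a b => ?_⟩
      rw [hre, mul_assoc (u ^ a.val * u ^ b.val), ← hadd hcp, ← hadd hcp, ← hadd hup]
      congr 3
      field_simp
      ring
    · subst h2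
      refine ⟨fun _ => 0, fun a b => ?_⟩
      have hu2c : u ^ 2 = c := by
        obtain ⟨t, ht⟩ := hgen _ hsq
        rcases zmod_two_cases t with rfl | rfl
        · exact absurd (by rw [← ht]; simp) hsq1
        · rw [← ht]; exact pow_one c
      simp only [ZMod.val_zero, pow_zero, mul_one]
      rcases zmod_two_cases a with rfl | rfl <;>
        rcases zmod_two_cases b with rfl | rfl
      · simp
      · simp
      · simp
      · rw [show ((1 : ZMod 2) + 1) = 0 from rfl, one_mul, ZMod.val_one, ZMod.val_zero, pow_one, pow_one,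
          pow_zero, ← pow_two, hu2c, ← pow_two, hcp]
  set τ : ZMod p → G := fun a => u ^ a.val * c ^ (q a).val with hτ
  have hτφ : ∀ a, φ (τ a) = 0 := by
    have hφpow : ∀ n : ℕ, φ (u ^ n) = 0 := by
      intro n
      induction n with
      | zero => rw [pow_zero]; exact hφcen 1 (one_mem _)
      | succ n ih => rw [pow_succ, hφmul, ih, hφu, add_zero]
    intro a
    rw [hτ, hφmul, hφpow, hφcen _ (hcz' _), add_zero]
  have hτcomm : ∀ (a : ZMod p) (g : G), τ a * g = g * τ a * c ^ (a * φ g).val := by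
    intro a g
    have hug : ⁅u ^ a.val, g⁆ = c ^ (a * φ g).val := by
      rw [← PGroup.classTwo_pow_commutator hcz, ← hφ, ← pow_mul, ← pow_mod_orderOf, hcord, mul_comm,
        ← ZMod.val_mul]
    have hC := mem_center_iff.mp (hcz' (q a))
    have hD := mem_center_iff.mp (hcz' (a * φ g))
    calc τ a * g = u ^ a.val * (g * c ^ (q a).val) := by rw [hτ, mul_assoc, hC g]
      _ = (⁅u ^ a.val, g⁆ * (g * u ^ a.val)) * c ^ (q a).val := by rw [commutatorElement_def]; group
      _ = (g * u ^ a.val * c ^ (a * φ g).val) * c ^ (q a).val := by rw [hug, hD (g * u ^ a.val)]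
      _ = g * u ^ a.val * (c ^ (a * φ g).val * c ^ (q a).val) := by group
      _ = g * u ^ a.val * (c ^ (q a).val * c ^ (a * φ g).val) := by rw [hC]
      _ = g * τ a * c ^ (a * φ g).val := by rw [hτ]; group
  let f : G →* G := MonoidHom.mk' (fun g => g * τ (φ g)) fun g h => by
    show g * h * τ (φ (g * h)) = g * τ (φ g) * (h * τ (φ h))
    have hD := mem_center_iff.mp (hcz' (φ g * φ h))
    calc g * h * τ (φ (g * h)) = g * h * (τ (φ g) * τ (φ h) * c ^ (φ g * φ h).val) := by
          rw [hφmul, show τ (φ g + φ h) = τ (φ g) * τ (φ h) * c ^ (φ g * φ h).val from (hq _ _).symm]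
      _ = g * (h * τ (φ g) * (τ (φ h) * c ^ (φ g * φ h).val)) := by group
      _ = g * (h * τ (φ g) * (c ^ (φ g * φ h).val * τ (φ h))) := by rw [← hD (τ (φ h))]
      _ = g * ((h * τ (φ g) * c ^ (φ g * φ h).val) * τ (φ h)) := by group
      _ = g * (τ (φ g) * h * τ (φ h)) := by rw [← hτcomm]
      _ = _ := by group
  have hτ0 : τ 0 = 1 := by
    have h := hq 0 0
    simp only [add_zero, mul_zero, ZMod.val_zero, pow_zero, mul_one, one_mul] at h
    rw [hτ]
    simp only [ZMod.val_zero, pow_zero, one_mul]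
    exact mul_eq_left.mp h
  have hinj : Function.Injective f := by
    rw [injective_iff_map_eq_one]
    intro g hg
    have hg' : g * τ (φ g) = 1 := hg
    have : φ g = 0 := by
      have h := hφmul g (τ (φ g))
      rw [hg', hτφ, add_zero, hφcen 1 (one_mem _)] at h
      exact h.symm
    rwa [this, hτ0, mul_one] at hg'
  let α : MulAut G := MulEquiv.ofBijective f ⟨hinj, Finite.injective_iff_surjective.mp hinj⟩
  refine orbits_le hp {g | φ g ≠ 0} (p ^ 2) (pow_pos hprime.pos 2) (fun g hg => ?_) ?_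
    (Nat.le_self_pow two_ne_zero p)
  · have hgc : g ∉ center G := fun h => hg (hφcen g h)
    refine ⟨hgc, orbit_sq hcz hcard hp hgc α (w := τ (φ g)) rfl ?_ ?_⟩
    · show τ (φ g) * τ (φ (τ (φ g))) = τ (φ g)
      rw [hτφ, hτ0, mul_one]
    · intro i hi0 hip hi
      apply hu
      have hz : u ^ ((φ g).val * i) ∈ center G := by
        have h1 : (τ (φ g)) ^ i ∈ center G := by
          obtain ⟨a, ha⟩ := hgen _ hi
          rw [← ha]; exact hcz' a
        rw [hτ] at h1
        simp only at h1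
        rw [(show Commute (u ^ (φ g).val) (c ^ (q (φ g)).val) from mem_center_iff.mp (hcz' _) _).mul_pow,
          ← pow_mul] at h1
        exact (Subgroup.mul_mem_cancel_right _ (pow_mem (hcz' _) i)).mp h1
      have hndvd : ¬ p ∣ (φ g).val * i := by
        rw [hprime.dvd_mul]
        rintro (h | h)
        · exact hg ((ZMod.val_eq_zero _).mp (Nat.eq_zero_of_dvd_of_lt h (φ g).val_lt))
        · exact absurd (Nat.le_of_dvd (by omega) h) (by omega)
      have hcop : p.Coprime ((φ g).val * i) := hprime.coprime_iff_not_dvd.mpr hndvd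
      rw [show u = u ^ (1 : ℤ) from (zpow_one u).symm,
        show (1 : ℤ) = (p : ℤ) * p.gcdA ((φ g).val * i) + ((φ g).val * i : ℕ) * p.gcdB ((φ g).val * i) by
          rw [← Nat.gcd_eq_gcd_ab, hcop.gcd_eq_one]; rfl,
        zpow_add, zpow_mul, zpow_mul, zpow_natCast, zpow_natCast]
      exact mul_mem (zpow_mem (hpz u) _) (zpow_mem hz _)
  · -- counting
    let φh : G →* Multiplicative (ZMod p) :=
      MonoidHom.mk' (fun g => Multiplicative.ofAdd (φ g)) fun g h => congrArg Multiplicative.ofAdd (hφmul g h)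
    have hidx : φh.ker.index = p := by
      rw [Subgroup.index_ker, MonoidHom.range_eq_top.mpr, Subgroup.card_top,
        Nat.card_congr Multiplicative.toAdd, Nat.card_zmod]
      intro a
      refine ⟨v ^ (Multiplicative.toAdd a).val, ?_⟩
      rw [map_pow, show φh v = Multiplicative.ofAdd 1 from congrArg Multiplicative.ofAdd hφv, ← ofAdd_nsmul,
        nsmul_one, ZMod.natCast_zmod_val, ofAdd_toAdd]
    have hT : Nat.card {g : G | φ g ≠ 0} + Nat.card φh.ker = Nat.card G := by
      have hset : ({g : G | φ g ≠ 0} : Set G) = ((φh.ker : Set G))ᶜ := rfl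
      have h := Set.ncard_add_ncard_compl (φh.ker : Set G)
      rw [← Nat.card_coe_set_eq, ← Nat.card_coe_set_eq, ← hset] at h
      rw [← h, add_comm]
      rfl
    have hK := φh.ker.card_mul_index
    rw [hidx] at hK
    have h2 : p * Nat.card (center G) ≤ Nat.card {g : G | φ g ≠ 0} := by
      have h3 : p * Nat.card (center G) ≤ Nat.card φh.ker := by
        refine Nat.le_of_mul_le_mul_right ?_ hprime.pos
        rw [hK]
        calc p * Nat.card (center G) * p = p * p * Nat.card (center G) := by ring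
          _ ≤ _ := hbig
      have h4 : 2 * Nat.card φh.ker ≤ Nat.card φh.ker * p := by
        rw [mul_comm]; exact Nat.mul_le_mul_left _ hprime.two_le
      omega
    calc p ^ 2 * Nat.card (center G) * (p - 1) = (p * Nat.card (center G)) * (p * (p - 1)) := by ring
      _ ≤ Nat.card {g : G | φ g ≠ 0} * (p * (p - 1)) := Nat.mul_le_mul_right _ h2
      _ = _ := by rw [sq, Nat.mul_sub, mul_one]

/-- A nonabelian group has at most `|G| / p` orbits of automorphisms, `p` the least prime divisor. -/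
theorem orbits_bound (hna : ¬ IsMulCommutative G) :
    Nat.card (MulAction.orbitRel.Quotient (MulAut G) G) ≤ Nat.card G / (Nat.card G).minFac := by
  haveI : Nontrivial G := by
    rcases subsingleton_or_nontrivial G with h | h
    · exact absurd ⟨⟨fun a b => Subsingleton.elim _ _⟩⟩ hna
    · exact h
  have hp : (Nat.card G).minFac.Prime := Nat.minFac_prime Finite.one_lt_card.ne'
  haveI : Fact (Nat.card G).minFac.Prime := ⟨hp⟩
  have hctop : center G ≠ ⊤ := fun h => hna ⟨⟨fun a b =>
    (mem_center_iff.mp (h ▸ mem_top b : b ∈ center G) a)⟩⟩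
  by_cases hbig : ∃ x : G, (Nat.card G).minFac < (centralizer ({x} : Set G)).index
  · exact large_class rfl hbig
  push Not at hbig
  obtain ⟨hcz, hpz, hcard, hcb⟩ := derived_card rfl hctop hbig
  by_cases hz : ∃ z ∈ center G, z ^ (Nat.card G).minFac = 1 ∧ z ∉ commutator G
  · obtain ⟨z, hz1, hz2, hz3⟩ := hz
    exact translation_case rfl hcz hcard hcb hz1 hz2 hz3
  push Not at hz
  obtain ⟨u, hu, hu2⟩ := exists_transvector hctop hcz hpz hcard hz
  exact transvection_case rfl hcz hpz hcard hcb hu hu2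

end Cfsg.Agent.AutOrbits
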